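import Groth.Prelude.Def_W4c3biextchowCx
import Mathlib

/-!
# The groupoid functor of a chain map in terms of elements
-/

set_option autoImplicit false

universe v u

open CategoryTheory Limits

namespace Groth.Agent.BiextChowCx

variable {R : Type u} [Ring R] {C D : ChainComplex (ModuleCat.{v} R) ℕ}

/-- the homology class of a cycle in degree `n` -/
theorem exists_cycle (n : ℕ) (x : C.X n) (hx : C.d n ((ComplexShape.down ℕ).next n) x = 0) :
    ∃ z : C.cycles n, C.iCycles n z = x :=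
  ((ShortComplex.ShortExact.moduleCat_exact_iff_function_exact
    (ShortComplex.mk (C.iCycles n) (C.d n ((ComplexShape.down ℕ).next n)) (C.iCycles_d n _))).1
    (ShortComplex.exact_of_f_is_kernel _ (C.cyclesIsKernel n _ rfl)) x).1 hx

theorem homologyπ_surjective (n : ℕ) : Function.Surjective (C.homologyπ n) :=
  (ModuleCat.epi_iff_surjective _).1 inferInstance

theorem homologyπ_eq_zero_iff (n : ℕ) (z : C.cycles n) :
    C.homologyπ n z = 0 ↔ ∃ t : C.X (n + 1), C.d (n + 1) n t = C.iCycles n z := by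
  constructor
  · intro h
    obtain ⟨t, ht⟩ := (((ShortComplex.ShortExact.moduleCat_exact_iff_function_exact
      (ShortComplex.mk (C.toCycles (n + 1) n) (C.homologyπ n) (C.toCycles_comp_homologyπ _ n))).1
      (ShortComplex.exact_of_g_is_cokernel _ (C.homologyIsCokernel _ n (by simp)))) z).1 h
    exact ⟨t, (ConcreteCategory.congr_hom (C.toCycles_i _ n) t).symm.trans (congrArg (C.iCycles n) ht)⟩
  · rintro ⟨t, ht⟩
    rw [← (ModuleCat.mono_iff_injective (C.iCycles n)).1 inferInstance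
      ((ConcreteCategory.congr_hom (C.toCycles_i _ n) t).trans ht)]
    exact ConcreteCategory.congr_hom (C.toCycles_comp_homologyπ _ n) t

theorem iCycles_map (f : C ⟶ D) (n : ℕ) (z : C.cycles n) :
    D.iCycles n (HomologicalComplex.cyclesMap f n z) = f.f n (C.iCycles n z) :=
  ConcreteCategory.congr_hom (HomologicalComplex.cyclesMap_i f n) z

theorem homologyMap_π (f : C ⟶ D) (n : ℕ) (z : C.cycles n) :
    HomologicalComplex.homologyMap f n (C.homologyπ n z) =
      D.homologyπ n (HomologicalComplex.cyclesMap f n z) :=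
  ConcreteCategory.congr_hom (HomologicalComplex.homologyπ_naturality f n) z

theorem mono_iff (f : C ⟶ D) (n : ℕ) :
    Mono (HomologicalComplex.homologyMap f n) ↔
      ∀ x : C.X n, C.d n ((ComplexShape.down ℕ).next n) x = 0 →
        (∃ t : D.X (n + 1), D.d (n + 1) n t = f.f n x) → ∃ s : C.X (n + 1), C.d (n + 1) n s = x := by
  rw [ModuleCat.mono_iff_injective, injective_iff_map_eq_zero]
  constructor
  · intro h x hx ht
    obtain ⟨z, rfl⟩ := exists_cycle n x hx
    refine (homologyπ_eq_zero_iff n z).1 (h _ ?_)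
    rw [homologyMap_π, homologyπ_eq_zero_iff, iCycles_map]
    exact ht
  · intro h η hη
    obtain ⟨z, rfl⟩ := homologyπ_surjective n η
    rw [homologyMap_π, homologyπ_eq_zero_iff, iCycles_map] at hη
    exact (homologyπ_eq_zero_iff n z).2 (h _ (ConcreteCategory.congr_hom (C.iCycles_d n _) z) hη)

theorem epi_iff (f : C ⟶ D) (n : ℕ) :
    Epi (HomologicalComplex.homologyMap f n) ↔
      ∀ y : D.X n, D.d n ((ComplexShape.down ℕ).next n) y = 0 →
        ∃ x : C.X n, C.d n ((ComplexShape.down ℕ).next n) x = 0 ∧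
          ∃ t : D.X (n + 1), D.d (n + 1) n t = y - f.f n x := by
  rw [ModuleCat.epi_iff_surjective]
  constructor
  · intro h y hy
    obtain ⟨w, rfl⟩ := exists_cycle n y hy
    obtain ⟨η, hη⟩ := h (D.homologyπ n w)
    obtain ⟨z, rfl⟩ := homologyπ_surjective n η
    rw [homologyMap_π] at hη
    refine ⟨C.iCycles n z, ConcreteCategory.congr_hom (C.iCycles_d n _) z, ?_⟩
    have : D.homologyπ n (w - HomologicalComplex.cyclesMap f n z) = 0 := by rw [map_sub, hη, sub_self]
    obtain ⟨t, ht⟩ := (homologyπ_eq_zero_iff n _).1 this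
    exact ⟨t, by rw [ht, map_sub, iCycles_map]⟩
  · intro h η
    obtain ⟨w, rfl⟩ := homologyπ_surjective n η
    obtain ⟨x, hx, t, ht⟩ := h (D.iCycles n w) (ConcreteCategory.congr_hom (D.iCycles_d n _) w)
    obtain ⟨z, rfl⟩ := exists_cycle n x hx
    refine ⟨C.homologyπ n z, ?_⟩
    rw [homologyMap_π, eq_comm, ← sub_eq_zero, ← map_sub, homologyπ_eq_zero_iff]
    exact ⟨t, by rw [ht, map_sub, iCycles_map]⟩

theorem d_zero_next (x : C.X 0) : C.d 0 ((ComplexShape.down ℕ).next 0) x = 0 := by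
  rw [C.shape 0 _ (by simp)]
  rfl

theorem d_one_next (x : C.X 1) : C.d 1 ((ComplexShape.down ℕ).next 1) x = 0 ↔ C.d 1 0 x = 0 := by
  rw [ChainComplex.next_nat_succ]

open W4c3biextchow

theorem faithful_iff (f : C ⟶ D) : (cxFunctor f).Faithful ↔ Mono (HomologicalComplex.homologyMap f 1) := by
  rw [mono_iff]
  constructor
  · intro h x hx ⟨t, ht⟩
    rw [d_one_next] at hx
    let φ : (⟨0⟩ : Obj C) ⟶ ⟨0⟩ := ⟨Submodule.Quotient.mk x, by rw [delta_mk]; simpa using hx⟩
    have : φ = 𝟙 _ := h.map_injective (Hom.ext (by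
      rw [cxFunctor_map_cl, cxFunctor_map_cl, id_cl, map_zero, q1Map_mk, Submodule.Quotient.mk_eq_zero]
      exact ⟨t, ht⟩))
    obtain ⟨s, hs⟩ := (Submodule.Quotient.mk_eq_zero _).1 (congrArg Hom.cl this)
    exact ⟨s, hs⟩
  · intro h
    refine ⟨fun {a b} φ ψ hφψ => Hom.ext (sub_eq_zero.1 ?_)⟩
    obtain ⟨x, hx⟩ := Submodule.Quotient.mk_surjective _ ((φ : Hom C a b).cl - (ψ : Hom C a b).cl)
    have hd : C.d 1 0 x = 0 := by
      have := congrArg (delta C) hx
      rw [delta_mk, map_sub, (φ : Hom C a b).delta_cl, (ψ : Hom C a b).delta_cl, sub_self] at this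
      exact this
    have hq : q1Map f (Submodule.Quotient.mk x) = 0 := by
      rw [hx, map_sub, sub_eq_zero]
      exact congrArg Hom.cl hφψ
    rw [q1Map_mk, Submodule.Quotient.mk_eq_zero] at hq
    obtain ⟨s, hs⟩ := h x ((d_one_next x).2 hd) hq
    rw [← hx, Submodule.Quotient.mk_eq_zero]
    exact ⟨s, hs⟩

theorem full_iff (f : C ⟶ D) : (cxFunctor f).Full ↔
    Epi (HomologicalComplex.homologyMap f 1) ∧ Mono (HomologicalComplex.homologyMap f 0) := by
  rw [epi_iff, mono_iff]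
  constructor
  · intro h
    refine ⟨fun y hy => ?_, fun x _ ⟨t, ht⟩ => ?_⟩
    · rw [d_one_next] at hy
      obtain ⟨φ, hφ⟩ := h.map_surjective
        (⟨Submodule.Quotient.mk y, by rw [delta_mk]; simpa using hy⟩ :
          (cxFunctor f).obj ⟨0⟩ ⟶ (cxFunctor f).obj ⟨0⟩)
      obtain ⟨x, hx⟩ := Submodule.Quotient.mk_surjective _ (φ : Hom C _ _).cl
      have hd := (φ : Hom C _ _).delta_cl
      rw [← hx, delta_mk, sub_self] at hd
      refine ⟨x, (d_one_next x).2 hd, ?_⟩
      have hcl := congrArg Hom.cl hφ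
      rw [cxFunctor_map_cl, ← hx, q1Map_mk, eq_comm, Submodule.Quotient.eq] at hcl
      obtain ⟨t, ht⟩ := hcl
      exact ⟨t, ht⟩
    · obtain ⟨φ, -⟩ := h.map_surjective
        (⟨Submodule.Quotient.mk t, by
          simp only [delta_mk, cxFunctor_obj_pt, map_zero, sub_zero]; exact ht⟩ :
          (cxFunctor f).obj ⟨0⟩ ⟶ (cxFunctor f).obj ⟨x⟩)
      obtain ⟨s, hs⟩ := Submodule.Quotient.mk_surjective _ (φ : Hom C _ _).cl
      have hd := (φ : Hom C _ _).delta_cl
      rw [← hs, delta_mk] at hd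
      exact ⟨s, by simpa using hd⟩
  · rintro ⟨he, hm⟩
    refine ⟨fun {a b} ψ => ?_⟩
    obtain ⟨w, hw⟩ := Submodule.Quotient.mk_surjective _ (ψ : Hom D _ _).cl
    have hwd := (ψ : Hom D _ _).delta_cl
    rw [← hw, delta_mk, cxFunctor_obj_pt, cxFunctor_obj_pt, ← map_sub] at hwd
    obtain ⟨v₀, hv₀⟩ := hm (b.pt - a.pt) (d_zero_next _) ⟨w, hwd⟩
    have hcyc : D.d 1 0 (w - f.f 1 v₀) = 0 := by
      have hc := ConcreteCategory.congr_hom (f.comm 1 0) v₀
      simp only [ConcreteCategory.comp_apply] at hc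
      rw [map_sub, hc, hv₀, sub_eq_zero]
      exact hwd
    obtain ⟨x, hx, t, ht⟩ := he _ ((d_one_next _).2 hcyc)
    rw [d_one_next] at hx
    refine ⟨⟨Submodule.Quotient.mk (v₀ + x), by
      rw [delta_mk, map_add]
      exact (congrArg₂ (· + ·) hv₀ hx).trans (add_zero _)⟩, Hom.ext ?_⟩
    rw [cxFunctor_map_cl, ← hw, q1Map_mk, eq_comm, Submodule.Quotient.eq]
    refine ⟨t, ht.trans ?_⟩
    rw [map_add]; abel

theorem essSurj_iff (f : C ⟶ D) :
    (cxFunctor f).EssSurj ↔ Epi (HomologicalComplex.homologyMap f 0) := by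
  rw [epi_iff]
  constructor
  · intro h y _
    obtain ⟨a, ⟨e⟩⟩ := h.mem_essImage (⟨y⟩ : Obj D)
    obtain ⟨t, ht⟩ := Submodule.Quotient.mk_surjective _ (e.hom : Hom D _ _).cl
    have hd := (e.hom : Hom D _ _).delta_cl
    rw [← ht, delta_mk] at hd
    exact ⟨a.pt, d_zero_next _, t, hd⟩
  · intro h
    refine ⟨fun b => ?_⟩
    obtain ⟨x, -, t, ht⟩ := h b.pt (d_zero_next _)
    have hdt : delta D (Submodule.Quotient.mk t) = b.pt - ((cxFunctor f).obj ⟨x⟩).pt := by
      rw [delta_mk]; exact ht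
    refine ⟨⟨x⟩, ⟨{
      hom := ⟨Submodule.Quotient.mk t, hdt⟩
      inv := ⟨-Submodule.Quotient.mk t, by rw [map_neg, hdt, neg_sub]⟩
      hom_inv_id := Hom.ext (add_neg_cancel _)
      inv_hom_id := Hom.ext (neg_add_cancel _) }⟩⟩

end Groth.Agent.BiextChowCx
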